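import Groth.Agent.L16.ProjSpace.BaseChange
import Groth.Agent.L18.ProjSpace
import Mathlib.AlgebraicGeometry.Morphisms.Immersion
import Mathlib.AlgebraicGeometry.Morphisms.FiniteType

/-!
# Immersions of affine schemes of finite type in projective spaces
-/

set_option autoImplicit false
universe u

open CategoryTheory CategoryTheory.Limits AlgebraicGeometry

namespace Groth.L16.Chow

open CohB1 (ProjSpaceOver)
open CohB1.ProjSpaceOver (toBase)

/-- A finite type algebra gives an immersion of its spectrum in a projective space. -/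
theorem exists_immersion_Spec {R B : CommRingCat.{u}} (φ : R ⟶ B) (hφ : φ.hom.FiniteType) :
    ∃ (n : ℕ) (j : Spec B ⟶ CohB1.ProjSpace n R),
      IsImmersion j ∧ j ≫ CohB1.ProjSpace.toSpec n R = Spec.map φ := by
  algebraize [φ.hom]
  obtain ⟨m, g, hg⟩ := Algebra.FiniteType.iff_quotient_mvPolynomial''.1 (inferInstance : Algebra.FiniteType R B)
  let a : Fin (m + 1) → B := Fin.cons 1 fun i => g (MvPolynomial.X i)
  have h0 : IsUnit (a 0) := by simp [a]
  refine ⟨m, Groth.L18.PS.tuplePt φ.hom a 0 h0, ?_, Groth.L18.PS.tuplePt_toSpec _ _ _ _⟩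
  have hsurj : Function.Surjective (Groth.L18.PS.chartHom φ.hom a 0 h0) := by
    intro b
    obtain ⟨p, rfl⟩ := hg b
    show g p ∈ (Groth.L18.PS.chartHom φ.hom a 0 h0).range
    induction p using MvPolynomial.induction_on with
    | C r => rw [MvPolynomial.algHom_C]; exact ⟨_, Groth.L18.PS.chartHom_algebraMap φ.hom a 0 h0 r⟩
    | add p q hp hq => rw [map_add]; exact add_mem hp hq
    | mul_X p i hp =>
      rw [map_mul]
      refine mul_mem hp ⟨Groth.L18.PS.coord 0 i.succ, ?_⟩
      simpa [a] using Groth.L18.PS.chartHom_coord φ.hom a 0 h0 i.succ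
  haveI : IsClosedImmersion (Spec.map (CommRingCat.ofHom (Groth.L18.PS.chartHom φ.hom a 0 h0))) :=
    IsClosedImmersion.spec_of_surjective _ hsurj
  unfold Groth.L18.PS.tuplePt
  infer_instance

variable {X S : Scheme.{u}} (f : X ⟶ S)

/-- An affine open mapping into an affine open is immersed in a projective space over the base. -/
theorem exists_immersion [LocallyOfFiniteType f] {U : X.Opens} (hU : IsAffineOpen U) {V : S.Opens}
    (hV : IsAffineOpen V) (hUV : U ≤ f ⁻¹ᵁ V) :
    ∃ (n : ℕ) (e : U.toScheme ⟶ ProjSpaceOver n S),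
      IsImmersion e ∧ e ≫ toBase n S = U.ι ≫ f := by
  obtain ⟨n, j, hj, hj'⟩ := exists_immersion_Spec (f.appLE V U hUV) (f.finiteType_appLE hV hU hUV)
  let R : CommRingCat.{u} := Γ(S, V)
  have hP := Groth.L16.ProjSpace.isPullback_over n (R := R)
  let L : CohB1.ProjSpace n R ⟶ ProjSpaceOver n S :=
    pullback.lift (Groth.L16.ProjSpace.map n _) (CohB1.ProjSpace.toSpec n R ≫ hV.fromSpec) (by
      rw [hP.w, Category.assoc]
      congr 1
      exact specULiftZIsTerminal.hom_ext _ _)
  have hL : L ≫ toBase n S = CohB1.ProjSpace.toSpec n R ≫ hV.fromSpec := pullback.lift_snd _ _ _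
  haveI : IsOpenImmersion L := by
    have hs : IsPullback (L ≫ pullback.fst _ (specULiftZIsTerminal.from S)) (CohB1.ProjSpace.toSpec n R)
        (CohB1.ProjSpace.toSpec n (ULift.{u} ℤ)) (hV.fromSpec ≫ specULiftZIsTerminal.from S) := by
      rw [show L ≫ pullback.fst _ (specULiftZIsTerminal.from S) = Groth.L16.ProjSpace.map n _ from
        pullback.lift_fst _ _ _, specULiftZIsTerminal.hom_ext (hV.fromSpec ≫ _)
          (specULiftZIsTerminal.from (Spec R))]
      exact hP
    have hLp : IsPullback L (CohB1.ProjSpace.toSpec n R) (toBase n S) hV.fromSpec :=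
      (IsPullback.of_bot hs.flip hL.symm (IsPullback.of_hasPullback _ _).flip).flip
    exact MorphismProperty.of_isPullback hLp.flip (inferInstance : IsOpenImmersion hV.fromSpec)
  refine ⟨n, hU.isoSpec.hom ≫ j ≫ L, inferInstance, ?_⟩
  rw [Category.assoc, Category.assoc, hL, reassoc_of% hj', hV.SpecMap_appLE_fromSpec f hU hUV,
    ← Category.assoc, hU.isoSpec_hom_fromSpec]

end Groth.L16.Chow
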