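import Groth.Agent.L16.ProjSpace.BaseChange
import Groth.Agent.L18.SegreOver
import Mathlib.AlgebraicGeometry.Morphisms.Immersion
import Mathlib.AlgebraicGeometry.Morphisms.Proper
import Mathlib.AlgebraicGeometry.Morphisms.SchemeTheoreticallyDominant

/-!
# Chow's lemma: the construction

Given a finite open cover of `X` by opens immersed in projective spaces over `S` and an open `U₀`
contained in all of them, the scheme-theoretic image of `U₀` in `X ×_S ℙ^N_S`.
-/

set_option autoImplicit false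
universe u

open CategoryTheory CategoryTheory.Limits AlgebraicGeometry

namespace Groth.L16.Chow

open CohB1 (ProjSpaceOver)
open CohB1.ProjSpaceOver (toBase)

/-- Morphisms to a separated scheme agree if they agree on a scheme-theoretically dense part. -/
theorem ext_of_schDominant {T Y S W : Scheme.{u}} (g : W ⟶ T) [IsSchemeTheoreticallyDominant g]
    (s : Y ⟶ S) [IsSeparated s] {a b : T ⟶ Y} (h : a ≫ s = b ≫ s) (hg : g ≫ a = g ≫ b) :
    a = b := by
  let Δ := pullback.diagonal s
  let c := pullback.snd Δ (pullback.lift a b h)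
  haveI : IsClosedImmersion c := MorphismProperty.pullback_snd Δ _ inferInstance
  have hl : (g ≫ a) ≫ Δ = g ≫ pullback.lift a b h := by
    apply pullback.hom_ext
    · rw [Category.assoc, Category.assoc, Category.assoc, pullback.diagonal_fst, Category.comp_id,
        pullback.lift_fst]
    · rw [Category.assoc, Category.assoc, Category.assoc, pullback.diagonal_snd, Category.comp_id,
        pullback.lift_snd, hg]
  have hgc : pullback.lift (g ≫ a) g hl ≫ c = g := pullback.lift_snd _ _ _
  have hker : c.ker = ⊥ := le_bot_iff.1 <| by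
    rw [← g.ker_eq_bot]
    conv_rhs => rw [← hgc]
    exact Scheme.Hom.le_ker_comp _ _
  haveI : IsIso c := IsClosedImmersion.isIso_iff_ker_eq_bot.2 hker
  have h1 := pullback.condition (f := Δ) (g := pullback.lift a b h)
  rw [← cancel_epi c]
  have e1 := congrArg (fun t => t ≫ pullback.fst s s) h1
  have e2 := congrArg (fun t => t ≫ pullback.snd s s) h1
  simp only [Δ, Category.assoc, pullback.diagonal_fst, pullback.diagonal_snd, pullback.lift_fst,
    pullback.lift_snd] at e1 e2
  exact e1.symm.trans e2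

/-- A morphism is scheme-theoretically dense in its image. -/
instance isSchemeTheoreticallyDominant_toImage {X Y : Scheme.{u}} (f : X ⟶ Y) [QuasiCompact f] :
    IsSchemeTheoreticallyDominant f.toImage := by
  refine ⟨Scheme.IdealSheafData.ext_of_iSup_eq_top
    (fun U : Y.affineOpens => ⟨f.imageι ⁻¹ᵁ U.1, U.2.preimage f.imageι⟩) ?_ fun U => ?_⟩
  · show TopologicalSpace.IsOpenCover fun U : Y.affineOpens => f.imageι ⁻¹ᵁ U.1
    exact TopologicalSpace.IsOpenCover.comap (iSup_affineOpens_eq_top Y) f.imageι.base.hom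
  · rw [Scheme.Hom.ker_apply]
    exact (RingHom.injective_iff_ker_eq_bot _).1 (f.toImage_app_injective U)

/-- Finite products of projective spaces embed into a projective space. -/
theorem exists_prod (S : Scheme.{u}) : ∀ (k : ℕ) (n : Fin k → ℕ),
    ∃ (N : ℕ) (P : Scheme.{u}) (s : P ⟶ ProjSpaceOver N S) (p : ∀ i, P ⟶ ProjSpaceOver (n i) S),
      IsClosedImmersion s ∧ (∀ i, p i ≫ toBase (n i) S = s ≫ toBase N S) ∧
        ∀ (T : Scheme.{u}) (t : T ⟶ S) (e : ∀ i, T ⟶ ProjSpaceOver (n i) S),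
          (∀ i, e i ≫ toBase (n i) S = t) →
            ∃ e' : T ⟶ P, e' ≫ s ≫ toBase N S = t ∧ ∀ i, e' ≫ p i = e i
  | 0, _ => by
    haveI : IsIso (toBase 0 S) := by
      haveI : IsIso (CohB1.ProjSpace.toSpec 0 (ULift.{u} ℤ)) := Groth.L16.ProjSpace.isIso_toSpec_zero _
      exact pullback_snd_iso_of_left_iso _ _
    exact ⟨0, _, 𝟙 _, fun i => i.elim0, inferInstance, fun i => i.elim0,
      fun T t _ _ => ⟨t ≫ inv (toBase 0 S), by simp, fun i => i.elim0⟩⟩
  | k + 1, n => by
    obtain ⟨N, P, s, p, hs, hp, hu⟩ := exists_prod S k fun i => n i.succ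
    obtain ⟨σ, hσ, hσ'⟩ := Groth.L18.PS.segre_over S (n 0) N
    let a := toBase (n 0) S
    let m : pullback a (s ≫ toBase N S) ⟶ pullback a (toBase N S) :=
      pullback.map a (s ≫ toBase N S) a (toBase N S) (𝟙 _) s (𝟙 _) (by simp) (by simp)
    have hm : m ≫ pullback.fst a (toBase N S) = pullback.fst a (s ≫ toBase N S) :=
      (pullback.lift_fst _ _ _).trans (Category.comp_id _)
    haveI : IsClosedImmersion m := by
      have hP : IsPullback m (pullback.snd a (s ≫ toBase N S)) (pullback.snd a (toBase N S)) s := by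
        refine IsPullback.of_right ?_ (pullback.lift_snd _ _ _) (IsPullback.of_hasPullback a (toBase N S)).flip.flip
        rw [hm]
        exact (IsPullback.of_hasPullback a (s ≫ toBase N S)).flip.flip
      exact MorphismProperty.of_isPullback hP.flip hs
    have hm' : (m ≫ σ) ≫ toBase (n 0 * N + n 0 + N) S = pullback.fst a (s ≫ toBase N S) ≫ a :=
      (Category.assoc _ _ _).trans ((congrArg (m ≫ ·) hσ').trans
        ((Category.assoc _ _ _).symm.trans (congrArg (· ≫ a) hm)))
    refine ⟨n 0 * N + n 0 + N, pullback a (s ≫ toBase N S), m ≫ σ,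
      Fin.cases (pullback.fst a (s ≫ toBase N S)) (fun i => pullback.snd a (s ≫ toBase N S) ≫ p i),
      inferInstance, ?_, ?_⟩
    · intro i
      rw [hm']
      refine Fin.cases ?_ (fun j => ?_) i
      · rfl
      · simp only [Fin.cases_succ, Category.assoc, hp j]
        exact pullback.condition.symm
    · intro T t e he
      obtain ⟨e', he', hpe⟩ := hu T t (fun i => e i.succ) fun i => he i.succ
      have w : e 0 ≫ a = e' ≫ s ≫ toBase N S := (he 0).trans he'.symm
      let l : T ⟶ pullback a (s ≫ toBase N S) := pullback.lift (e 0) e' w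
      have hl1 : l ≫ pullback.fst a (s ≫ toBase N S) = e 0 := pullback.lift_fst _ _ _
      have hl2 : l ≫ pullback.snd a (s ≫ toBase N S) = e' := pullback.lift_snd _ _ _
      refine ⟨l, ?_, fun i => ?_⟩
      · exact (congrArg (l ≫ ·) hm').trans
          ((Category.assoc _ _ _).symm.trans ((congrArg (· ≫ a) hl1).trans (he 0)))
      · refine Fin.cases ?_ (fun j => ?_) i
        · exact hl1
        · exact (Category.assoc _ _ _).symm.trans ((congrArg (· ≫ p j) hl2).trans (hpe j))

variable {X S : Scheme.{u}} (f : X ⟶ S) [IsSeparated f] {k : ℕ} (U : Fin k → X.Opens)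
  (n : Fin k → ℕ) (e : ∀ i, (U i).toScheme ⟶ ProjSpaceOver (n i) S)

/-- Chow's construction. -/
theorem exists_chow [∀ i, IsImmersion (e i)] (he : ∀ i, e i ≫ toBase (n i) S = (U i).ι ≫ f)
    (hU : ∀ x, ∃ i, x ∈ U i) (U₀ : X.Opens) (h₀ : ∀ i, U₀ ≤ U i) [QuasiCompact U₀.ι] :
    ∃ (N : ℕ) (Γ' : Scheme.{u}) (π : Γ' ⟶ X) (q : Γ' ⟶ ProjSpaceOver N S),
      IsImmersion q ∧ q ≫ toBase N S = π ≫ f ∧ IsProper π ∧ IsIso (π ∣_ U₀) ∧
        IsSchemeTheoreticallyDominant (π ⁻¹ᵁ U₀).ι := by
  obtain ⟨N, P, s, p, hs, hp, hu⟩ := exists_prod S k n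
  let b := s ≫ toBase N S
  haveI : IsProper b := inferInstance
  -- the graph
  obtain ⟨e', he', hpe⟩ := hu U₀.toScheme (U₀.ι ≫ f) (fun i => X.homOfLE (h₀ i) ≫ e i)
    fun i => by rw [Category.assoc, he, Scheme.homOfLE_ι_assoc]
  let h : U₀.toScheme ⟶ pullback f b := pullback.lift U₀.ι e' he'.symm
  have hh1 : h ≫ pullback.fst f b = U₀.ι := pullback.lift_fst _ _ _
  have hh2 : h ≫ pullback.snd f b = e' := pullback.lift_snd _ _ _
  haveI : IsImmersion h := by
    haveI : IsImmersion (h ≫ pullback.fst f b) := by rw [hh1]; infer_instance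
    exact IsImmersion.of_comp h (pullback.fst f b)
  haveI : QuasiCompact h := by
    haveI : QuasiCompact (h ≫ pullback.fst f b) := by rw [hh1]; infer_instance
    exact QuasiCompact.of_comp h (pullback.fst f b)
  let π : h.image ⟶ X := h.imageι ≫ pullback.fst f b
  let γ : h.image ⟶ P := h.imageι ≫ pullback.snd f b
  haveI : IsProper (pullback.fst f b) := MorphismProperty.pullback_fst _ _ inferInstance
  haveI : IsProper π := inferInstance
  have hπ : h.toImage ≫ π = U₀.ι := by simp [π, hh1]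
  have hγ : h.toImage ≫ γ = e' := by simp [γ, hh2]
  have hbase : π ≫ f = γ ≫ b := by simp [π, γ, pullback.condition]
  have hrange : Set.range h.imageι = closure (Set.range h) := by
    rw [Scheme.Hom.imageι, Scheme.IdealSheafData.range_subschemeι, Scheme.Hom.support_ker]
  -- a closed immersion into an open through which `h` factors
  have key : ∀ (O : (pullback f b).Opens) {C : Scheme.{u}} (c : C ⟶ pullback f b)
      (h' : U₀.toScheme ⟶ C), h' ≫ c = h → (c ⁻¹ᵁ O = ⊤) → IsClosed (Subtype.val ⁻¹' Set.range c : Set O) →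
      ∀ x : h.image, h.imageι x ∈ O → h.imageι x ∈ Set.range c := by
    intro O C c h' hc _ hcl x hx
    have h1 : h.imageι x ∈ closure (Set.range h) := hrange ▸ ⟨x, rfl⟩
    have h2 : Set.range h ⊆ Set.range c := by
      rintro _ ⟨u, rfl⟩; exact ⟨h' u, by rw [← Scheme.Hom.comp_apply, hc]⟩
    obtain ⟨Z, hZ, hZ'⟩ := isClosed_induced_iff.1 hcl
    have h3 : Set.range c ∩ O = Z ∩ O := by
      ext y; exact ⟨fun hy => ⟨(Set.ext_iff.1 hZ' ⟨y, hy.2⟩).2 hy.1, hy.2⟩,
        fun hy => ⟨(Set.ext_iff.1 hZ' ⟨y, hy.2⟩).1 hy.1, hy.2⟩⟩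
    have h4 : (O : Set (pullback f b : Scheme.{u})) ∩ closure (Set.range h) ⊆
        closure ((O : Set (pullback f b : Scheme.{u})) ∩ Set.range h) := O.2.inter_closure
    have h5 : closure ((O : Set (pullback f b : Scheme.{u})) ∩ Set.range h) ⊆ Z :=
      closure_minimal (fun y hy => (h3.le ⟨h2 hy.2, hy.1⟩).1) hZ
    exact (h3.ge ⟨h5 (h4 ⟨hx, h1⟩), hx⟩).1
  -- `π` over `U₀`
  have hO : π ⁻¹ᵁ U₀ = h.toImage.opensRange := by
    refine le_antisymm (fun x hx => ?_) ?_
    · let O := pullback.fst f b ⁻¹ᵁ U₀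
      let h0 : U₀.toScheme ⟶ O := IsOpenImmersion.lift O.ι h (by
        rintro _ ⟨u, rfl⟩
        rw [Scheme.Opens.range_ι]
        show pullback.fst f b (h u) ∈ U₀
        rw [← Scheme.Hom.comp_apply, hh1]; exact u.2)
      have hh0 : h0 ≫ O.ι = h := IsOpenImmersion.lift_fac _ _ _
      haveI : IsClosedImmersion h0 := by
        haveI : IsClosedImmersion (h0 ≫ (pullback.fst f b ∣_ U₀)) := by
          rw [show h0 ≫ (pullback.fst f b ∣_ U₀) = 𝟙 _ from by
            rw [← cancel_mono U₀.ι, Category.assoc, morphismRestrict_ι, ← Category.assoc, hh0, hh1,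
              Category.id_comp]]
          infer_instance
        exact IsClosedImmersion.of_comp h0 (pullback.fst f b ∣_ U₀)
      have hcl : IsClosed (Subtype.val ⁻¹' Set.range h : Set O) := by
        have : (Subtype.val ⁻¹' Set.range h : Set O) = Set.range h0 := by
          ext y
          constructor
          · rintro ⟨u, hu⟩
            exact ⟨u, Subtype.ext ((congrArg (fun g : U₀.toScheme ⟶ pullback f b => g u) hh0).trans hu)⟩
          · rintro ⟨u, rfl⟩
            exact ⟨u, (congrArg (fun g : U₀.toScheme ⟶ pullback f b => g u) hh0).symm⟩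
        rw [this]; exact h0.isClosedEmbedding.isClosed_range
      obtain ⟨u, hu⟩ := key O h (𝟙 _) (Category.id_comp _) (by
        refine top_le_iff.1 fun u _ => ?_
        show pullback.fst f b (h u) ∈ U₀
        rw [← Scheme.Hom.comp_apply, hh1]; exact u.2) hcl x hx
      exact ⟨u, h.imageι.isEmbedding.injective (by rw [← Scheme.Hom.comp_apply, h.toImage_imageι, hu])⟩
    · rintro _ ⟨u, rfl⟩
      show π (h.toImage u) ∈ U₀
      rw [← Scheme.Hom.comp_apply, hπ]; exact u.2
  let ξ : U₀.toScheme ≅ (π ⁻¹ᵁ U₀).toScheme :=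
    IsOpenImmersion.isoOfRangeEq h.toImage (π ⁻¹ᵁ U₀).ι (by rw [Scheme.Opens.range_ι, hO]; rfl)
  have hξ : ξ.hom ≫ (π ⁻¹ᵁ U₀).ι = h.toImage := IsOpenImmersion.isoOfRangeEq_hom_fac _ _ _
  have hiso : IsIso (π ∣_ U₀) := by
    have : ξ.hom ≫ (π ∣_ U₀) = 𝟙 _ := by
      rw [← cancel_mono U₀.ι, Category.assoc, morphismRestrict_ι, ← Category.assoc, hξ, hπ,
        Category.id_comp]
    rw [show π ∣_ U₀ = ξ.inv from by rw [← cancel_epi ξ.hom, this, Iso.hom_inv_id]]
    infer_instance
  have hdom : IsSchemeTheoreticallyDominant (π ⁻¹ᵁ U₀).ι := by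
    rw [show (π ⁻¹ᵁ U₀).ι = ξ.inv ≫ h.toImage from by rw [← hξ, Iso.inv_hom_id_assoc]]
    infer_instance
  -- compatibility over each `U i`
  have hagree : ∀ i (T : h.image.Opens) (a : T.toScheme ⟶ (U i).toScheme),
      a ≫ (U i).ι = T.ι ≫ π → a ≫ e i = T.ι ≫ γ ≫ p i := by
    intro i T a ha
    haveI : IsSchemeTheoreticallyDominant (h.toImage ∣_ T) :=
      IsSchemeTheoreticallyDominant.of_isPullback (isPullback_morphismRestrict h.toImage T).flip
    refine ext_of_schDominant (h.toImage ∣_ T) (toBase (n i) S) ?_ ?_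
    · calc (a ≫ e i) ≫ toBase (n i) S = T.ι ≫ π ≫ f := by rw [Category.assoc, he, reassoc_of% ha]
        _ = T.ι ≫ γ ≫ b := by rw [hbase]
        _ = (T.ι ≫ γ ≫ p i) ≫ toBase (n i) S := by simp only [Category.assoc, hp, b]
    · rw [← Category.assoc (h.toImage ∣_ T) T.ι, morphismRestrict_ι, Category.assoc,
        reassoc_of% hγ, hpe, ← Category.assoc, ← Category.assoc]
      congr 1
      rw [← cancel_mono (U i).ι, Category.assoc, Category.assoc, ha,
        morphismRestrict_ι_assoc, hπ, Scheme.homOfLE_ι]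
  let W : Fin k → P.Opens := fun i => p i ⁻¹ᵁ (e i).coborderRange
  have hcover : ∀ i, π ⁻¹ᵁ U i ≤ γ ⁻¹ᵁ W i := by
    intro i x hx
    have h1 := congrArg (fun g : (π ⁻¹ᵁ U i).toScheme ⟶ ProjSpaceOver (n i) S => g ⟨x, hx⟩)
      (hagree i (π ⁻¹ᵁ U i) (π ∣_ U i) (morphismRestrict_ι _ _))
    exact subset_coborder ⟨(π ∣_ U i) ⟨x, hx⟩, h1⟩
  have himm : ∀ i, IsImmersion (γ ∣_ W i) := by
    intro i
    let O := pullback.snd f b ⁻¹ᵁ W i
    let ℓ := (e i).liftCoborder
    let C := pullback ℓ (p i ∣_ (e i).coborderRange)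
    let c : C ⟶ pullback f b := pullback.lift (pullback.fst _ _ ≫ (U i).ι)
      (pullback.snd _ _ ≫ (W i).ι) (by
        show (pullback.fst ℓ _ ≫ (U i).ι) ≫ f = (pullback.snd ℓ _ ≫ (W i).ι) ≫ s ≫ toBase N S
        rw [Category.assoc, ← he, ← hp i, Category.assoc, ← morphismRestrict_ι_assoc,
          ← pullback.condition_assoc, Scheme.Hom.liftCoborder_ι_assoc])
    have hc1 : c ≫ pullback.fst f b = pullback.fst _ _ ≫ (U i).ι := pullback.lift_fst _ _ _
    have hc2 : c ≫ pullback.snd f b = pullback.snd _ _ ≫ (W i).ι := pullback.lift_snd _ _ _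
    have hcO : c ⁻¹ᵁ O = ⊤ := top_le_iff.1 fun y _ => by
      show pullback.snd f b (c y) ∈ W i
      rw [← Scheme.Hom.comp_apply, hc2]
      exact (pullback.snd ℓ (p i ∣_ (e i).coborderRange) y).2
    let c0 : C ⟶ O := IsOpenImmersion.lift O.ι c (by
      rintro _ ⟨y, rfl⟩
      rw [Scheme.Opens.range_ι]
      exact hcO.ge (Set.mem_univ y))
    have hc0 : c0 ≫ O.ι = c := IsOpenImmersion.lift_fac _ _ _
    haveI : IsClosedImmersion c0 := by
      haveI : IsSeparated (pullback.snd f b) := MorphismProperty.pullback_snd _ _ inferInstance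
      haveI : IsSeparated (pullback.snd f b ∣_ W i) := IsZariskiLocalAtTarget.restrict ‹_› _
      haveI : IsClosedImmersion (c0 ≫ (pullback.snd f b ∣_ W i)) := by
        rw [show c0 ≫ (pullback.snd f b ∣_ W i) = pullback.snd ℓ (p i ∣_ (e i).coborderRange) from by
          rw [← cancel_mono (W i).ι, Category.assoc, morphismRestrict_ι, ← Category.assoc, hc0, hc2]]
        exact MorphismProperty.pullback_snd (P := @IsClosedImmersion) _ _ inferInstance
      exact IsClosedImmersion.of_comp c0 (pullback.snd f b ∣_ W i)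
    have hcl : IsClosed (Subtype.val ⁻¹' Set.range c : Set O) := by
      have : (Subtype.val ⁻¹' Set.range c : Set O) = Set.range c0 := by
        ext y
        constructor
        · rintro ⟨u, hu⟩
          exact ⟨u, Subtype.ext ((congrArg (fun g : C ⟶ pullback f b => g u) hc0).trans hu)⟩
        · rintro ⟨u, rfl⟩
          exact ⟨u, (congrArg (fun g : C ⟶ pullback f b => g u) hc0).symm⟩
      rw [this]; exact c0.isClosedEmbedding.isClosed_range
    let eW : U₀.toScheme ⟶ (W i).toScheme := IsOpenImmersion.lift (W i).ι e' (by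
      rintro _ ⟨u, rfl⟩
      rw [Scheme.Opens.range_ι]
      show p i (e' u) ∈ (e i).coborderRange
      rw [← Scheme.Hom.comp_apply, hpe]
      exact subset_coborder ⟨_, rfl⟩)
    have heW : eW ≫ (W i).ι = e' := IsOpenImmersion.lift_fac _ _ _
    let hC : U₀.toScheme ⟶ C := pullback.lift (X.homOfLE (h₀ i)) eW (by
      rw [← cancel_mono (e i).coborderRange.ι, Category.assoc, Category.assoc,
        Scheme.Hom.liftCoborder_ι, morphismRestrict_ι]
      exact ((congrArg (· ≫ p i) heW).trans (hpe i)).symm.trans (Category.assoc _ _ _))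
    have hC' : hC ≫ c = h := by
      apply pullback.hom_ext
      · rw [Category.assoc, hc1, ← Category.assoc, pullback.lift_fst, Scheme.homOfLE_ι, hh1]
      · rw [Category.assoc, hc2, ← Category.assoc, pullback.lift_snd, heW, hh2]
    let T := γ ⁻¹ᵁ W i
    let a : T.toScheme ⟶ (U i).toScheme := IsOpenImmersion.lift (U i).ι (T.ι ≫ π) (by
      rintro _ ⟨⟨x, hx⟩, rfl⟩
      rw [Scheme.Opens.range_ι]
      obtain ⟨y, hy⟩ := key O c hC hC' hcO hcl x hx
      show pullback.fst f b (h.imageι x) ∈ U i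
      rw [← hy, ← Scheme.Hom.comp_apply, hc1]
      exact (pullback.fst ℓ (p i ∣_ (e i).coborderRange) y).2)
    have ha : a ≫ (U i).ι = T.ι ≫ π := IsOpenImmersion.lift_fac _ _ _
    let σ : T.toScheme ⟶ C := pullback.lift a (γ ∣_ W i) (by
      rw [← cancel_mono (e i).coborderRange.ι, Category.assoc, Category.assoc,
        Scheme.Hom.liftCoborder_ι, morphismRestrict_ι]
      exact (hagree i T a ha).trans ((morphismRestrict_ι_assoc γ (W i) (p i)).symm))
    have hσ : σ ≫ c = T.ι ≫ h.imageι := by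
      apply pullback.hom_ext
      · rw [Category.assoc, hc1, ← Category.assoc, pullback.lift_fst, ha]
        simp [π]
      · rw [Category.assoc, hc2, ← Category.assoc, pullback.lift_snd, morphismRestrict_ι]
        simp [γ, T]
    haveI : IsImmersion σ := by
      haveI : IsImmersion (σ ≫ c) := by rw [hσ]; infer_instance
      exact IsImmersion.of_comp σ c
    rw [show γ ∣_ W i = σ ≫ pullback.snd _ _ from (pullback.lift_snd _ _ _).symm]
    infer_instance
  let WW : P.Opens := ⨆ i, W i
  have htop : γ ⁻¹ᵁ WW = ⊤ := top_le_iff.1 fun x _ => by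
    obtain ⟨i, hi⟩ := hU (π x)
    exact TopologicalSpace.Opens.mem_iSup.2 ⟨i, hcover i hi⟩
  haveI : IsImmersion (γ ∣_ WW) := by
    refine IsZariskiLocalAtTarget.of_iSup_eq_top (fun i => WW.ι ⁻¹ᵁ W i) ?_ fun i => ?_
    · rw [eq_top_iff]
      rintro ⟨y, hy⟩ -
      obtain ⟨i, hi⟩ := TopologicalSpace.Opens.mem_iSup.1 hy
      exact TopologicalSpace.Opens.mem_iSup.2 ⟨i, hi⟩
    · rw [MorphismProperty.arrow_mk_iso_iff @IsImmersion (morphismRestrictRestrict γ WW _)]
      have : WW.ι ''ᵁ (WW.ι ⁻¹ᵁ W i) = W i := by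
        rw [Scheme.Hom.image_preimage_eq_opensRange_inf, Scheme.Opens.opensRange_ι,
          inf_eq_right]
        exact le_iSup W i
      rw [this]
      exact himm i
  haveI : IsIso (γ ⁻¹ᵁ WW).ι := by rw [htop, ← Scheme.topIso_hom]; infer_instance
  haveI : IsImmersion γ := by
    rw [← MorphismProperty.cancel_left_of_respectsIso (P := @IsImmersion) (γ ⁻¹ᵁ WW).ι,
      ← morphismRestrict_ι]
    infer_instance
  refine ⟨N, h.image, π, γ ≫ s, inferInstance, ?_, inferInstance, hiso, hdom⟩
  rw [Category.assoc, hbase]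

end Groth.L16.Chow
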